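import Groth.Agent.HopfLib.ModuleInvariants
import Mathlib.RingTheory.Filtration
import Mathlib.RingTheory.AdicCompletion.Basic
import Mathlib.RingTheory.Artinian.Module
import Mathlib.RingTheory.Ideal.Quotient.Noetherian

/-!
# Adic topologies on modules of invariants
-/

set_option autoImplicit false

noncomputable section

open TensorProduct HopfRep
open Groth.Agent.HopfLib
open IsLocalRing (maximalIdeal)

universe u v w w'

namespace Groth.Agent.CohDer1.InvAdic

variable {k : Type u} [Field k] {H : Type v} [CommRing H] [HopfAlgebra k H]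
  {A : Type w} [CommRing A] [Algebra k A] [Comod k H A] [GLin.IsCoactAlg k H A]
  {M : Type w'} [AddCommGroup M] [Module k M] [Module A M] [IsScalarTower k A M]
  [Comod k H M] [TameAct.IsHopfMod k H A M]

theorem hit_invariant_smul (g : H →ₗ[k] k) (c : GLin.invariants k H A) (m : M) :
    hit g (c • m) = c • hit g m := by
  show hit g ((c : A) • m) = (c : A) • hit g m
  rw [hit_apply, hit_apply, TameAct.IsHopfMod.coact_smul (k := k) (A := H) (c : A) m,
    (GLin.mem_invariants_iff k H A (c : A)).1 c.2]
  generalize Comod.coact (k := k) (A := H) m = t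
  induction t using TensorProduct.induction_on with
  | zero => simp
  | add p q hp hq => simp only [map_add, smul_add, hp, hq]
  | tmul x a => simp [smul_comm (c : A) (g a) x]

variable (k H A M) in
/-- The invariant vectors as a module over the invariant functions. -/
def invMod : Submodule (GLin.invariants k H A) M where
  carrier := fixedPts k H M
  add_mem' := (fixedPts k H M).add_mem
  zero_mem' := (fixedPts k H M).zero_mem
  smul_mem' c m hm := by
    show (c : A) • m ∈ fixedPts k H M
    show Comod.coact (k := k) (A := H) ((c : A) • m) = _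
    rw [TameAct.IsHopfMod.coact_smul (k := k) (A := H) (c : A) m, (GLin.mem_invariants_iff k H A (c : A)).1 c.2,
      show Comod.coact (k := k) (A := H) m = m ⊗ₜ[k] 1 from hm]
    simp

variable {α : H →ₗ[k] k} (hα : IsIntegral α) (h1 : α 1 = 1)
  (m : Ideal A) [hmax : m.IsMaximal] (hm : IsSubcomod (k := k) (A := H) (m.restrictScalars k))
  [IsLocalRing ↥(GLin.invariants k H A)]

omit [AddCommGroup M] [Module k M] [Module A M] [IsScalarTower k A M] [Comod k H M] [TameAct.IsHopfMod k H A M] in
include hα h1 hm in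
theorem mem_maximalIdeal_iff (c : GLin.invariants k H A) :
    c ∈ maximalIdeal (GLin.invariants k H A) ↔ (c : A) ∈ m := by
  refine ⟨fun hc => ?_, fun hc => (IsLocalRing.mem_maximalIdeal c).2 fun hu =>
    hmax.ne_top (Ideal.eq_top_of_isUnit_mem _ hc (hu.map (GLin.invariants k H A).val))⟩
  by_contra hcm
  obtain ⟨r, y, hy, hry⟩ := hmax.exists_inv hcm
  let e : GLin.invariants k H A := ⟨hit α r, reynolds_mem_invariants hα h1 r⟩
  have h2 : hit α ((c : A) * r - 1) ∈ m := IsSubcomod.hit_mem hm α (by
    show (c : A) * r - 1 ∈ m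
    rw [show (c : A) * r - 1 = -y by linear_combination hry]
    exact m.neg_mem hy)
  rw [map_sub, hit_mul_of_mem_invariants α c.2, hit_eq_self_of_mem_fixedPts h1
    (show (1 : A) ∈ fixedPts k H A by
      show Comod.coact (k := k) (A := H) (1 : A) = (1 : A) ⊗ₜ[k] (1 : H)
      rw [GLin.IsCoactAlg.coact_one (k := k) (A := H) (R := A), Algebra.TensorProduct.one_def])] at h2
  have h3 : c * e - 1 ∈ maximalIdeal (GLin.invariants k H A) := (IsLocalRing.mem_maximalIdeal _).2 fun hu =>
    hmax.ne_top (Ideal.eq_top_of_isUnit_mem _ h2 (hu.map (GLin.invariants k H A).val))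
  exact (IsLocalRing.maximalIdeal.isMaximal (GLin.invariants k H A)).ne_top
    ((Ideal.eq_top_iff_one _).2 (by
      simpa using sub_mem ((maximalIdeal (GLin.invariants k H A)).mul_mem_right e hc) h3))

variable [IsNoetherianRing A] [Module.Finite A M]

include hα h1 hm in
/-- The adic filtration on invariants is separated modulo a power of the invariant maximal ideal. -/
theorem mem_of_forall (j : ℕ) {x : M} (hx : x ∈ fixedPts k H M)
    (h : ∀ n, x ∈ (m ^ n • ⊤ : Submodule A M) ⊔
      Submodule.span A (↑((maximalIdeal (GLin.invariants k H A)) ^ j • invMod k H A M) : Set M) ⊔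
      Submodule.span A {z | ∃ c ∈ (maximalIdeal (GLin.invariants k H A)) ^ j, ∃ y : M, z = c • y}) :
    x ∈ (maximalIdeal (GLin.invariants k H A)) ^ j • invMod k H A M := by
  classical
  set P := (maximalIdeal (GLin.invariants k H A)) ^ j • invMod k H A M
  let N : Submodule A M := Submodule.span A (↑P : Set M) ⊔
    Submodule.span A {z | ∃ c ∈ (maximalIdeal (GLin.invariants k H A)) ^ j, ∃ y : M, z = c • y}
  have hN : ∀ y ∈ N, hit α y ∈ P := by
    have hc : ∀ c ∈ (maximalIdeal (GLin.invariants k H A)) ^ j, ∀ (a : A) (y : M),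
        hit α (a • (c • y)) ∈ P := fun c hc a y => by
      rw [show a • (c • y) = c • (a • y) from smul_comm a (c : A) y, hit_invariant_smul]
      exact Submodule.smul_mem_smul hc (reynolds_mem_fixedPts hα h1 _)
    have hP : ∀ (a : A), ∀ y ∈ P, hit α (a • y) ∈ P := fun a y hy =>
      Submodule.smul_induction_on (p := fun y => hit α (a • y) ∈ P) hy (fun c hc' y _ => hc c hc' a y)
        fun y z hy hz => by rw [smul_add, map_add]; exact add_mem hy hz
    intro y hy
    obtain ⟨y1, hy1, y2, hy2, rfl⟩ := Submodule.mem_sup.1 hy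
    clear hy
    rw [map_add]
    refine add_mem ?_ ?_
    · have : ∀ a : A, hit α (a • y1) ∈ P := by
        induction hy1 using Submodule.span_induction with
        | mem z hz => exact fun a => hP a _ hz
        | zero => intro a; simp
        | add z z' _ _ hz hz' => intro a; rw [smul_add, map_add]; exact add_mem (hz a) (hz' a)
        | smul b z _ hz => intro a; rw [smul_smul]; exact hz _
      simpa using this 1
    · have : ∀ a : A, hit α (a • y2) ∈ P := by
        induction hy2 using Submodule.span_induction with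
        | mem z hz => obtain ⟨c, hc', w, rfl⟩ := hz; exact fun a => hc c hc' a w
        | zero => intro a; simp
        | add z z' _ _ hz hz' => intro a; rw [smul_add, map_add]; exact add_mem (hz a) (hz' a)
        | smul b z _ hz => intro a; rw [smul_smul]; exact hz _
      simpa using this 1
  have hmem : N.mkQ x ∈ (⨅ i : ℕ, m ^ i • ⊤ : Submodule A (M ⧸ N)) := by
    rw [Submodule.mem_iInf]
    intro i
    obtain ⟨u, hu, v, hv, huv⟩ := Submodule.mem_sup.1 (show x ∈ (m ^ i • ⊤ : Submodule A M) ⊔ N by
      rw [← sup_assoc]; exact h i)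
    rw [← huv, map_add, show N.mkQ v = 0 from (Submodule.Quotient.mk_eq_zero N).2 hv, add_zero]
    have := Submodule.mem_map_of_mem (f := N.mkQ) hu
    rw [Submodule.map_smul''] at this
    exact Submodule.smul_mono le_rfl le_top this
  obtain ⟨⟨r, hr⟩, hrx⟩ := (m.mem_iInf_smul_pow_eq_bot_iff (N.mkQ x)).1 hmem
  have h2 : r • x - x ∈ N := by
    rw [← Submodule.Quotient.mk_eq_zero N, ← Submodule.mkQ_apply, map_sub, map_smul, sub_eq_zero]
    exact hrx
  have h3 := hN _ h2
  rw [map_sub, hit_smul_of_mem_fixedPts α r hx, hit_eq_self_of_mem_fixedPts h1 hx] at h3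
  let e : GLin.invariants k H A := ⟨hit α r, reynolds_mem_invariants hα h1 r⟩
  have he : e ∈ maximalIdeal (GLin.invariants k H A) :=
    (mem_maximalIdeal_iff hα h1 m hm e).2 (IsSubcomod.hit_mem hm α hr)
  obtain ⟨u, hu⟩ := IsLocalRing.isUnit_one_sub_self_of_mem_nonunits e he
  have h4 : ((u : GLin.invariants k H A)) • x ∈ P := by
    rw [hu, sub_smul, one_smul]
    exact (Submodule.neg_mem_iff P).1 (by rw [neg_sub]; exact h3)
  have := P.smul_mem ((u⁻¹ : (GLin.invariants k H A)ˣ) : GLin.invariants k H A) h4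
  rwa [smul_smul, Units.inv_mul, one_smul] at this

include hα h1 hm in
theorem smul_mem_adic {n : ℕ} {c : GLin.invariants k H A}
    (hc : c ∈ (maximalIdeal (GLin.invariants k H A)) ^ n) (y : M) : c • y ∈ (m ^ n • ⊤ : Submodule A M) := by
  refine Submodule.smul_mem_smul (?_ : (c : A) ∈ m ^ n) Submodule.mem_top
  have h2 : Ideal.map (algebraMap (GLin.invariants k H A) A) ((maximalIdeal (GLin.invariants k H A)) ^ n) ≤ m ^ n := by
    rw [Ideal.map_pow]
    refine Ideal.pow_right_mono (Ideal.map_le_iff_le_comap.2 fun c hc => ?_) n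
    show (c : A) ∈ m
    exact (mem_maximalIdeal_iff hα h1 m hm c).1 hc
  exact h2 (Ideal.mem_map_of_mem _ hc)

include hα h1 hm in
theorem le_adic (n : ℕ) (x : M) (hx : x ∈ (maximalIdeal (GLin.invariants k H A)) ^ n • invMod k H A M) :
    x ∈ (m ^ n • ⊤ : Submodule A M) := by
  exact Submodule.smul_induction_on (p := fun x => x ∈ (m ^ n • ⊤ : Submodule A M)) hx
    (fun c hc y _ => smul_mem_adic hα h1 m hm hc y) fun y z hy hz => add_mem hy hz

variable [IsNoetherianRing ↥(GLin.invariants k H A)] (hfin : (invMod k H A M).FG)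

include hα h1 hm hfin in
/-- The adic filtration on invariants is cofinal with the invariant one. -/
theorem exists_adic_le (j : ℕ) :
    ∃ N : ℕ, ∀ x ∈ fixedPts k H M, x ∈ (m ^ N • ⊤ : Submodule A M) →
      x ∈ (maximalIdeal (GLin.invariants k H A)) ^ j • invMod k H A M := by
  let C := GLin.invariants k H A
  let I : Ideal C := (maximalIdeal C) ^ j
  let P := I • invMod k H A M
  haveI : Module.Finite C (invMod k H A M) := Module.Finite.iff_fg.2 hfin
  let P' : Submodule C (invMod k H A M) := I • ⊤
  have hP' : ∀ z : invMod k H A M, z ∈ P' ↔ (z : M) ∈ P := fun z => by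
    have e : P'.map (invMod k H A M).subtype = P := by
      rw [Submodule.map_smul'', Submodule.map_top, Submodule.range_subtype]
    rw [← e]
    exact ⟨fun hz => Submodule.mem_map_of_mem hz, fun ⟨w, hw, hwz⟩ => Subtype.ext hwz ▸ hw⟩
  let Q := (invMod k H A M) ⧸ P'
  haveI : IsArtinianRing (C ⧸ I) := by
    rcases Nat.eq_zero_or_pos j with hj | hj
    · haveI : Subsingleton (C ⧸ I) := Ideal.Quotient.subsingleton_iff.2 (by simp [I, hj])
      infer_instance
    · haveI : Nontrivial (C ⧸ I) := Ideal.Quotient.nontrivial_iff.2 fun h =>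
        (IsLocalRing.maximalIdeal.isMaximal C).ne_top (top_le_iff.1 (h ▸ Ideal.pow_le_self hj.ne'))
      haveI : IsLocalRing (C ⧸ I) :=
        IsLocalRing.of_surjective' (Ideal.Quotient.mk I) Ideal.Quotient.mk_surjective
      rw [isArtinianRing_iff_isNilpotent_maximalIdeal]
      refine ⟨j, ?_⟩
      rw [Ideal.zero_eq_bot, ← le_bot_iff, ← Ideal.map_quotient_self I, Ideal.map_pow]
      refine Ideal.pow_right_mono ?_ _
      intro x hx
      obtain ⟨a, rfl⟩ := Ideal.Quotient.mk_surjective x
      refine Ideal.mem_map_of_mem _ ?_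
      rw [IsLocalRing.mem_maximalIdeal] at hx ⊢
      exact fun hu => hx (hu.map (Ideal.Quotient.mk I))
  letI : Module (C ⧸ I) Q := inferInstanceAs (Module (C ⧸ I) ((invMod k H A M) ⧸ (I • ⊤ : Submodule C (invMod k H A M))))
  haveI : IsScalarTower C (C ⧸ I) Q :=
    inferInstanceAs (IsScalarTower C (C ⧸ I) ((invMod k H A M) ⧸ (I • ⊤ : Submodule C (invMod k H A M))))
  haveI : Module.Finite (C ⧸ I) Q := Module.Finite.of_restrictScalars_finite C _ _
  haveI : IsArtinian C Q :=
    isArtinian_of_surjective_algebraMap (R := C ⧸ I) (S := C) Ideal.Quotient.mk_surjective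
  let F : ℕ → Submodule C Q := fun n =>
    ((((m ^ n • ⊤ : Submodule A M)).restrictScalars C).comap (invMod k H A M).subtype).map P'.mkQ
  have hanti : ∀ n, F (n + 1) ≤ F n := fun n => Submodule.map_mono (Submodule.comap_mono
    (Submodule.restrictScalars_mono C (Submodule.smul_mono (Ideal.pow_le_pow_right n.le_succ) le_rfl)))
  obtain ⟨N, hN⟩ := IsArtinian.monotone_stabilizes
    (⟨fun n => OrderDual.toDual (F n), monotone_nat_of_le_succ fun n => hanti n⟩ : ℕ →o (Submodule C Q)ᵒᵈ)
  refine ⟨N, fun x hx hxN => mem_of_forall hα h1 m hm j hx fun n => ?_⟩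
  have hxF : P'.mkQ ⟨x, hx⟩ ∈ F (max N n) := by
    rw [show F (max N n) = F N from (congrArg OrderDual.ofDual (hN _ (le_max_left N n))).symm]
    exact Submodule.mem_map_of_mem hxN
  obtain ⟨z, hz, hzx⟩ := hxF
  have hd : (z - ⟨x, hx⟩ : invMod k H A M) ∈ P' := (Submodule.Quotient.eq P').1 hzx
  refine Submodule.mem_sup_left ?_
  rw [show x = (z : M) - ((z - ⟨x, hx⟩ : invMod k H A M) : M) by simp]
  refine sub_mem (Submodule.mem_sup_left ?_) (Submodule.mem_sup_right (Submodule.subset_span ((hP' _).1 hd)))
  exact Submodule.smul_mono (Ideal.pow_le_pow_right (le_max_right N n)) le_rfl hz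

include hα h1 hm hfin in
/-- Compatible systems of invariants converge. -/
theorem exists_limit [IsAdicComplete (maximalIdeal ↥(GLin.invariants k H A)) ↥(GLin.invariants k H A)]
    (x : ℕ → M) (hx : ∀ n, x n ∈ fixedPts k H M)
    (hc : ∀ n, x (n + 1) - x n ∈ (m ^ n • ⊤ : Submodule A M)) :
    ∃ y ∈ fixedPts k H M, ∀ n, y - x n ∈ (m ^ n • ⊤ : Submodule A M) := by
  classical
  set I := maximalIdeal (GLin.invariants k H A)
  have hle : ∀ a b, a ≤ b → x b - x a ∈ (m ^ a • ⊤ : Submodule A M) := by
    intro a b hab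
    induction b, hab using Nat.le_induction with
    | base => rw [sub_self]; exact zero_mem _
    | succ b hab ih =>
      rw [← sub_add_sub_cancel (x (b + 1)) (x b) (x a)]
      exact add_mem (Submodule.smul_mono (Ideal.pow_le_pow_right hab) le_rfl (hc b)) ih
  choose N hN using exists_adic_le hα h1 m hm hfin
  let K : ℕ → ℕ := fun j => Nat.rec (N 0) (fun i r => max (max r (i + 1)) (N (i + 1))) j
  have hKN : ∀ j, N j ≤ K j := fun j => by cases j <;> simp [K]
  have hK : ∀ j, K j ≤ K (j + 1) := fun j => le_trans (le_max_left _ _) (le_max_left _ _)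
  have hKj : ∀ j, j ≤ K j := fun j => by
    cases j with
    | zero => exact Nat.zero_le _
    | succ i => exact le_trans (le_max_right _ _) (le_max_left _ _)
  have hd : ∀ j, x (K (j + 1)) - x (K j) ∈ I ^ j • invMod k H A M := fun j =>
    hN j _ (sub_mem (hx _) (hx _))
      (Submodule.smul_mono (Ideal.pow_le_pow_right (hKN j)) le_rfl (hle _ _ (hK j)))
  obtain ⟨s, hs⟩ := hfin
  have hcoef : ∀ j, ∀ z ∈ I ^ j • invMod k H A M, ∃ c : M → GLin.invariants k H A,
      (∀ g, c g ∈ I ^ j) ∧ z = ∑ g ∈ s, c g • g := by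
    intro j z hz
    refine Submodule.smul_induction_on (p := fun z => ∃ c : M → GLin.invariants k H A,
      (∀ g, c g ∈ I ^ j) ∧ z = ∑ g ∈ s, c g • g) hz (fun c hc y hy => ?_) ?_
    · rw [← hs] at hy
      obtain ⟨d, -, hd⟩ := Submodule.mem_span_finset.1 hy
      exact ⟨fun g => c * d g, fun g => Ideal.mul_mem_right _ _ hc,
        by rw [← hd, Finset.smul_sum]; simp only [smul_smul]⟩
    · rintro y z ⟨c, hc, rfl⟩ ⟨d, hd, rfl⟩
      exact ⟨fun g => c g + d g, fun g => add_mem (hc g) (hd g),
        by rw [← Finset.sum_add_distrib]; simp only [add_smul]⟩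
  choose c hcI hceq using fun j => hcoef j _ (hd j)
  have hlim : ∀ g : M, ∃ L : GLin.invariants k H A, ∀ j, (∑ i ∈ Finset.range j, c i g) - L ∈ I ^ j := fun g => by
    obtain ⟨L, hL⟩ := IsPrecomplete.prec (I := I) inferInstance
      (f := fun j => ∑ i ∈ Finset.range j, c i g) (fun {a b} hab => by
        rw [SModEq.sub_mem, smul_eq_mul, Ideal.mul_top, ← neg_mem_iff, neg_sub,
          ← Finset.sum_Ico_eq_sub _ hab]
        exact sum_mem fun i hi => Ideal.pow_le_pow_right (Finset.mem_Ico.1 hi).1 (hcI i g))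
    exact ⟨L, fun j => by
      have := hL j
      rwa [SModEq.sub_mem, smul_eq_mul, Ideal.mul_top] at this⟩
  choose L hL using hlim
  refine ⟨x (K 0) + ∑ g ∈ s, L g • g, ?_, fun n => ?_⟩
  · refine add_mem (hx _) (sum_mem fun g hg => ?_)
    exact (invMod k H A M).smul_mem (L g) (hs ▸ Submodule.subset_span hg)
  · have htel : ∀ j, x (K j) = x (K 0) + ∑ g ∈ s, (∑ i ∈ Finset.range j, c i g) • g := by
      intro j
      induction j with
      | zero => simp
      | succ j ih =>
        simp only [Finset.sum_range_succ, add_smul, Finset.sum_add_distrib]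
        rw [← hceq j, ← add_assoc, ← ih, add_sub_cancel]
    rw [show x (K 0) + ∑ g ∈ s, L g • g - x n =
      -(x (K n) - (x (K 0) + ∑ g ∈ s, L g • g)) + (x (K n) - x n) by abel]
    refine add_mem (neg_mem ?_) (hle _ _ (hKj n))
    rw [htel n, add_sub_add_left_eq_sub, ← Finset.sum_sub_distrib]
    exact sum_mem fun g _ => by rw [← sub_smul]; exact smul_mem_adic hα h1 m hm (hL g n) g

end Groth.Agent.CohDer1.InvAdic
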